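import Cfsg.Agent.H250.P1.Pt
import Cfsg.Agent.Lib.GoldschmidtFusion

/-!
# S3046, Case A, (alpha2): the module form (helper538)

From `Pt p X V T Q A E`: `Q` is transitive on the `E i`, `E i ≅ SL₂(F)` (the symmetric groups are excluded), and
`A ⊓ E i = T ⊓ E i`.
-/

set_option autoImplicit false
set_option linter.unusedSectionVars false

namespace Cfsg.Agent.H538.P1

open Subgroup Cfsg Cfsg.Agent.H250.FFFam Cfsg.Agent.H250.FFStr Cfsg.Agent.H250.FFSym2 Cfsg.Agent.H250.FFSym3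
  Cfsg.Agent.H250.FFBau Cfsg.Agent.H250.P1

universe u

/-- a `p`-group has nontrivial fixed points on an invariant nontrivial subgroup -/
theorem exists_fixed {p : ℕ} [Fact p.Prime] {X V : Type u} [Group X] [Group V] [MulDistribMulAction X V] [Finite V]
    (hVp : ∀ v : V, v ^ p = 1) {Q : Subgroup X} (hQ : IsPGroup p ↥Q) {W : Subgroup V} (hW : W ≠ ⊥)
    (hinv : ∀ q ∈ Q, ∀ w ∈ W, q • w ∈ W) : ∃ w ∈ W, w ≠ 1 ∧ ∀ q ∈ Q, q • w = w := by
  let act : MulAction ↥Q ↥W :=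
    { smul := fun q w => ⟨(q : X) • (w : V), hinv q q.2 w w.2⟩
      one_smul := fun w => Subtype.ext (one_smul X (w : V))
      mul_smul := fun a b w => Subtype.ext (mul_smul (a : X) (b : X) (w : V)) }
  have hp : IsPGroup p ↥W := fun w => ⟨1, by rw [pow_one]; exact Subtype.ext (hVp w)⟩
  have hdvd : p ∣ Nat.card ↥W := by
    obtain ⟨n, hn⟩ := IsPGroup.iff_card.1 hp
    rw [hn]
    refine dvd_pow_self p ?_
    rintro rfl
    rw [pow_zero] at hn
    exact hW (Subgroup.card_eq_one.1 hn)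
  have h1 : (1 : ↥W) ∈ MulAction.fixedPoints ↥Q ↥W := fun q => Subtype.ext (smul_one (q : X))
  obtain ⟨b, hb, hne⟩ := hQ.exists_fixed_point_of_prime_dvd_card_of_fixed_point ↥W hdvd h1
  refine ⟨b, b.2, fun h => hne (Subtype.ext h.symm), fun q hq => ?_⟩
  exact congrArg Subtype.val (hb ⟨q, hq⟩)

variable {p : ℕ} [hp : Fact p.Prime] {X V : Type u} [Group X] [Group V] [MulDistribMulAction X V]
variable [Finite X] [Finite V] {T Q A : Subgroup X} {k : ℕ} {E : Fin k → Subgroup X}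

/-- conjugation moves `[V, E i]` to `[V, E j]` -/
theorem cm_conj {E1 E2 : Subgroup X} {x : X} (h : ∀ y, x * y * x⁻¹ ∈ E2 ↔ y ∈ E1) {v : V} (hv : v ∈ cm V E1) :
    x • v ∈ cm V E2 := by
  have key : cm V E1 ≤ (cm V E2).comap (MulDistribMulAction.toMonoidHom V x) := by
    unfold cm
    rw [closure_le]
    rintro _ ⟨y, hy, w, rfl⟩
    rw [SetLike.mem_coe, mem_comap, MulDistribMulAction.toMonoidHom_apply]
    refine subset_closure ⟨x * y * x⁻¹, (h y).2 hy, x • w, ?_⟩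
    rw [smul_mul', smul_inv', mul_smul, mul_smul, inv_smul_smul]
  exact key hv

theorem smul_iSup_mem {O : Set (Fin k)} {q : X}
    (hq : ∀ i ∈ O, ∃ j ∈ O, ∀ y, q * y * q⁻¹ ∈ E j ↔ y ∈ E i) {w : V} (hw : w ∈ ⨆ i ∈ O, cm V (E i)) :
    q • w ∈ ⨆ i ∈ O, cm V (E i) := by
  have key : (⨆ i ∈ O, cm V (E i)) ≤ (⨆ i ∈ O, cm V (E i)).comap (MulDistribMulAction.toMonoidHom V q) := by
    refine iSup₂_le fun i hi v hv => ?_
    obtain ⟨j, hj, h⟩ := hq i hi
    rw [mem_comap, MulDistribMulAction.toMonoidHom_apply]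
    exact (le_iSup₂_of_le j hj le_rfl : cm V (E j) ≤ _) (cm_conj h hv)
  exact key hw

theorem E_ne_bot (h : Pt p X V T Q A E) (i : Fin k) : E i ≠ ⊥ := by
  intro hi
  have h1 : ∀ j, E j = ⊥ := by
    intro j
    obtain ⟨t, -, ht⟩ := h.str.trans i j
    rw [eq_bot_iff]
    intro x hx
    have h2 := (ht (t⁻¹ * x * t)).1 (by rw [show t * (t⁻¹ * x * t) * t⁻¹ = x by group]; exact hx)
    rw [hi, mem_bot] at h2
    rw [mem_bot]
    calc x = t * (t⁻¹ * x * t) * t⁻¹ := by group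
      _ = 1 := by rw [h2]; group
  have h2 := h.str.top
  simp only [h1, iSup_bot, bot_sup_eq] at h2
  apply h.Qn
  have h3 := h.TQ
  rw [h2, top_le_iff] at h3
  exact normalizer_eq_top_iff.1 h3

theorem cm_ne_bot (h : Pt p X V T Q A E) (i : Fin k) : cm V (E i) ≠ ⊥ := by
  intro hi
  apply E_ne_bot h i
  rw [eq_bot_iff]
  intro x hx
  rw [mem_bot]
  refine h.hf x fun v => ?_
  have := mem_cm (V := V) hx v
  rw [hi, mem_bot] at this
  exact mul_inv_eq_one.1 this

/-- **(A)** `Q` is transitive -/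
theorem trans (h : Pt p X V T Q A E) : ∀ i j, ∃ q ∈ Q, ∀ x, q * x * q⁻¹ ∈ E j ↔ x ∈ E i := by
  intro i0
  by_contra hcon
  push Not at hcon
  obtain ⟨j0, hj0⟩ := hcon
  obtain ⟨O, hO⟩ : ∃ O : Set (Fin k), O = {j | ∃ q ∈ Q, ∀ x, q * x * q⁻¹ ∈ E j ↔ x ∈ E i0} := ⟨_, rfl⟩
  have hi0 : i0 ∈ O := by
    rw [hO]
    exact ⟨1, Q.one_mem, fun x => by rw [one_mul, inv_one, mul_one]⟩
  have hj0' : j0 ∈ Oᶜ := by
    rw [hO]
    rintro ⟨q, hq, hx⟩
    obtain ⟨x, hx'⟩ := hj0 q hq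
    rcases hx' with ⟨h1, h2⟩ | ⟨h1, h2⟩
    · exact h2 ((hx x).1 h1)
    · exact h1 ((hx x).2 h2)
  -- both sets are `Q`-invariant
  have hinvO : ∀ q ∈ Q, ∀ i ∈ O, ∃ j ∈ O, ∀ y, q * y * q⁻¹ ∈ E j ↔ y ∈ E i := by
    intro q hq i hi
    obtain ⟨j, hj⟩ := h.str.perm q i
    refine ⟨j, ?_, hj⟩
    rw [hO] at hi ⊢
    obtain ⟨r, hr, hr'⟩ := hi
    refine ⟨q * r, Q.mul_mem hq hr, fun x => ?_⟩
    rw [show q * r * x * (q * r)⁻¹ = q * (r * x * r⁻¹) * q⁻¹ by group, hj, hr']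
  have hinvO' : ∀ q ∈ Q, ∀ i ∈ Oᶜ, ∃ j ∈ Oᶜ, ∀ y, q * y * q⁻¹ ∈ E j ↔ y ∈ E i := by
    intro q hq i hi
    obtain ⟨j, hj⟩ := h.str.perm q i
    refine ⟨j, ?_, hj⟩
    intro hjO
    apply hi
    rw [hO] at hjO ⊢
    obtain ⟨r, hr, hr'⟩ := hjO
    refine ⟨q⁻¹ * r, Q.mul_mem (Q.inv_mem hq) hr, fun x => ?_⟩
    rw [← hj, ← hr']
    rw [show q * (q⁻¹ * r * x * (q⁻¹ * r)⁻¹) * q⁻¹ = r * x * r⁻¹ by group]
  have hQp : IsPGroup p ↥Q := h.hT.to_le h.QT
  -- the general step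
  have step : ∀ P : Set (Fin k), P.Nonempty → (∀ q ∈ Q, ∀ i ∈ P, ∃ j ∈ P, ∀ y, q * y * q⁻¹ ∈ E j ↔ y ∈ E i) →
      ∀ j ∉ P, E j ≤ normalizer (Q : Set X) := by
    intro P ⟨i, hi⟩ hinv j hj x hx
    have hW : (⨆ i ∈ P, cm V (E i)) ≠ ⊥ := by
      intro hb
      apply cm_ne_bot h i
      rw [eq_bot_iff, ← hb]
      exact le_iSup₂_of_le i hi le_rfl
    obtain ⟨w, hw, hw1, hwQ⟩ := exists_fixed h.hVp hQp hW (fun q hq w hw => smul_iSup_mem (hinv q hq) hw)
    refine h.pt w hw1 hwQ x ?_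
    have h1 : (⨆ i ∈ P, cm V (E i)) ≤ fx V (zpowers x) := by
      refine iSup₂_le fun i hi u hu => ?_
      have h2 : x • u = u := h.str.fix i j (fun e => hj (e ▸ hi)) x hx u hu
      intro y hy
      have h3 : zpowers x ≤ MulAction.stabilizer X u := by
        rw [zpowers_le]
        exact h2
      exact h3 hy
    exact h1 hw x (mem_zpowers x)
  apply h.Qn
  have hall : ∀ j, E j ≤ normalizer (Q : Set X) := by
    intro j
    by_cases hj : j ∈ O
    · exact step Oᶜ ⟨j0, hj0'⟩ hinvO' j (fun h => h hj)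
    · exact step O ⟨i0, hi0⟩ hinvO j hj
  have h1 : (⊤ : Subgroup X) ≤ normalizer (Q : Set X) := by
    rw [← h.str.top]
    exact sup_le (iSup_le hall) h.TQ
  exact normalizer_eq_top_iff.1 (top_le_iff.1 h1)

/-- `E i` has a Sylow `p`-subgroup in `T` -/
theorem not_dvd (h : Pt p X V T Q A E) (i : Fin k) : ¬ p ∣ T.relIndex (E i) := by
  have hJ := h.str.norm
  have h1 : T.relIndex (⨆ i, E i) ∣ T.index := Cfsg.Agent.Lib.GoldschmidtFusion.relIndex_dvd_index_of_normal_right T _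
  have hle : E i ≤ ⨆ i, E i := le_iSup E i
  have hn : (E i).subgroupOf (⨆ i, E i) |>.Normal := by
    rw [normal_subgroupOf_iff_le_normalizer hle]
    refine iSup_le fun j => ?_
    by_cases hij : i = j
    · subst hij
      exact le_normalizer
    · intro y hy
      rw [mem_normalizer_iff]
      intro x
      constructor
      · intro hx
        rw [← h.str.comm i j hij x hx y hy, mul_inv_cancel_right]
        exact hx
      · intro hx
        have h3 := h.str.comm i j hij _ hx y hy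
        have h4 : x = y * x * y⁻¹ := by
          calc x = y⁻¹ * (y * x * y⁻¹ * y) := by group
            _ = y⁻¹ * (y * (y * x * y⁻¹)) := by rw [h3]
            _ = _ := by group
        rw [h4]
        exact hx
  have h2 := Cfsg.Agent.Lib.GoldschmidtFusion.relIndex_dvd_index_of_normal_right (T.subgroupOf (⨆ i, E i))
    ((E i).subgroupOf (⨆ i, E i))
  rw [relIndex_subgroupOf hle] at h2
  exact fun hd => h.hTi ((hd.trans h2).trans h1)

/-- a vector of `[V, E i]` fixed by `E i` is trivial -/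
theorem eq_one_of_fix (h : Pt p X V T Q A E) {i : Fin k} {u : V} (hu : u ∈ cm V (E i)) (hf : ∀ x ∈ E i, x • u = u) :
    u = 1 := by
  have h1 : u ∈ fx V (⨆ i, E i) := by
    refine mem_fx_iSup fun j => ?_
    by_cases hij : i = j
    · subst hij
      exact hf
    · exact fun y hy => h.str.fix i j hij y hy u hu
  rw [h.fx_bot, mem_bot] at h1
  exact h1

/-- the components of a vector -/
theorem exists_split (h : Pt p X V T Q A E) (v : V) (i : Fin k) :
    ∃ u ∈ cm V (E i), ∃ w ∈ ⨆ j ∈ {j | j ≠ i}, cm V (E j), v = u * w := by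
  obtain ⟨w, hw, c, hc, e⟩ := h.str.split v
  rw [h.fx_bot, mem_bot] at hc
  rw [hc, mul_one] at e
  subst e
  have h1 : (⨆ i, cm V (E i)) ≤ cm V (E i) ⊔ ⨆ j ∈ {j | j ≠ i}, cm V (E j) := by
    refine iSup_le fun j => ?_
    by_cases hij : j = i
    · subst hij
      exact le_sup_left
    · have h2 : cm V (E j) ≤ ⨆ j ∈ {j | j ≠ i}, cm V (E j) :=
        le_iSup₂_of_le (f := fun j (_ : j ∈ {j | j ≠ i}) => cm V (E j)) j hij le_rfl
      exact h2.trans le_sup_right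
  have hnorm : (cm V (E i)).Normal := ⟨fun a ha g => by rw [h.hV g a, mul_inv_cancel_right]; exact ha⟩
  obtain ⟨u, hu, w', hw', e⟩ := mem_sup_of_normal_left.1 (h1 hw)
  exact ⟨u, hu, w', hw', e.symm⟩

/-- `E i` fixes the other components -/
theorem fix_other (h : Pt p X V T Q A E) {i : Fin k} {y : X} (hy : y ∈ E i) {w : V}
    (hw : w ∈ ⨆ j ∈ {j | j ≠ i}, cm V (E j)) : y • w = w := by
  have h1 : (⨆ j ∈ {j | j ≠ i}, cm V (E j)) ≤ fx V (zpowers y) := by
    refine iSup₂_le fun j hj u hu => ?_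
    have h2 : y • u = u := h.str.fix j i hj y hy u hu
    intro z hz
    have h3 : zpowers y ≤ MulAction.stabilizer X u := by
      rw [zpowers_le]
      exact h2
    exact h3 hz
  exact h1 hw y (mem_zpowers y)

section perm

open Equiv

/-- the stabilizer of a pair has even index in `Sym(2^n + 1)`, `n ≥ 2` -/
theorem even_index {n : ℕ} (hn : 2 ≤ n) {a b : Fin (2 ^ n + 1)} (hab : a ≠ b) {H : Subgroup (Perm (Fin (2 ^ n + 1)))}
    (hH : ∀ σ ∈ H, ∀ z, (z = a ∨ z = b) ↔ (σ z = a ∨ σ z = b)) : 2 ∣ H.index := by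
  classical
  let act : MulAction (Perm (Fin (2 ^ n + 1))) (Finset (Fin (2 ^ n + 1))) :=
    { smul := fun σ s => s.map σ.toEmbedding
      one_smul := fun s => Finset.map_refl
      mul_smul := fun σ τ s => by
        change s.map _ = (s.map _).map _
        rw [Finset.map_map]
        rfl }
  have hsm : ∀ (σ : Perm (Fin (2 ^ n + 1))) (s : Finset (Fin (2 ^ n + 1))), σ • s = s.map σ.toEmbedding := fun _ _ => rfl
  have hle : H ≤ MulAction.stabilizer (Perm (Fin (2 ^ n + 1))) ({a, b} : Finset (Fin (2 ^ n + 1))) := by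
    intro σ hσ
    rw [MulAction.mem_stabilizer_iff, hsm]
    ext z
    rw [Finset.mem_map_equiv, Finset.mem_insert, Finset.mem_singleton, Finset.mem_insert, Finset.mem_singleton]
    have := hH σ hσ (σ.symm z)
    rw [Equiv.apply_symm_apply] at this
    exact this
  refine dvd_trans ?_ (index_dvd_of_le hle)
  rw [MulAction.index_stabilizer]
  have horb : MulAction.orbit (Perm (Fin (2 ^ n + 1))) ({a, b} : Finset (Fin (2 ^ n + 1))) =
      ↑(Finset.powersetCard 2 (Finset.univ : Finset (Fin (2 ^ n + 1)))) := by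
    ext s
    rw [Finset.mem_coe, Finset.mem_powersetCard]
    constructor
    · rintro ⟨σ, rfl⟩
      refine ⟨Finset.subset_univ _, ?_⟩
      change (Finset.map _ _).card = 2
      rw [Finset.card_map, Finset.card_pair hab]
    · rintro ⟨-, hs⟩
      obtain ⟨c, d, hcd, rfl⟩ := Finset.card_eq_two.1 hs
      refine ⟨swap (swap a c b) d * swap a c, ?_⟩
      change Finset.map _ _ = _
      have he : swap a c b ≠ c := by
        intro he
        apply hab
        have h3 : swap a c b = swap a c a := he.trans (swap_apply_left a c).symm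
        exact ((swap a c).injective h3).symm
      rw [Finset.map_insert, Finset.map_singleton]
      change ({(swap (swap a c b) d * swap a c) a, (swap (swap a c b) d * swap a c) b} : Finset _) = _
      rw [Perm.mul_apply, Perm.mul_apply, swap_apply_left, swap_apply_left, swap_apply_of_ne_of_ne he.symm hcd]
  rw [horb, Set.ncard_coe_finset, Finset.card_powersetCard, Finset.card_univ, Fintype.card_fin, Nat.choose_two_right,
    Nat.add_sub_cancel]
  obtain ⟨m, rfl⟩ : ∃ m, n = m + 2 := ⟨n - 2, by omega⟩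
  have : (2 ^ (m + 2) + 1) * 2 ^ (m + 2) / 2 = (2 ^ (m + 2) + 1) * 2 ^ (m + 1) := by
    rw [pow_succ 2 (m + 1), ← mul_assoc, Nat.mul_div_cancel _ (by norm_num)]
  rw [this, pow_succ]
  exact ⟨(2 ^ (m + 2) + 1) * 2 ^ m, by ring⟩

end perm

/-- the symmetric groups are excluded -/
theorem not_sym {T Q A : Subgroup X} {E : Fin k → Subgroup X} (h : Pt 2 X V T Q A E) {n : ℕ} (hn : 2 ≤ n)
    (hS : ∀ i, SymOff (2 ^ n + 1) V T (E i)) : False := by
  classical
  obtain ⟨C⟩ := exists_co hS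
  -- the transposition `x`
  obtain ⟨i, hi⟩ := exists_inf_ne h.str (h.AQ.trans h.QT) h.off h.A_ne
  obtain ⟨x', hx', hx1⟩ := ((A ⊓ E i).bot_or_exists_ne_one).resolve_left hi
  obtain ⟨a, ha⟩ : ∃ a, C.ρ i ⟨x', hx'.2⟩ a ≠ a := by
    by_contra hcon
    push Not at hcon
    apply hx1
    have h1 : C.ρ i ⟨x', hx'.2⟩ = 1 := Equiv.ext hcon
    have h2 := (map_eq_one_iff _ (C.ρ i).injective).1 h1
    exact congrArg Subtype.val h2
  obtain ⟨x, hxA, hx⟩ := C.off i A (h.AQ.trans h.QT) h.off ⟨x', hx'.2⟩ hx'.1 a ha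
  obtain ⟨b, hb⟩ : ∃ b, b = C.ρ i ⟨x', hx'.2⟩ a := ⟨_, rfl⟩
  rw [← hb] at hx ha
  have hab : a ≠ b := ha.symm
  -- a fixed vector of `T`
  have hV1 : (⊤ : Subgroup V) ≠ ⊥ := by
    intro h0
    apply cm_ne_bot h i
    rw [eq_bot_iff, ← h0]
    exact le_top
  obtain ⟨v, -, hv1, hvT⟩ := exists_fixed h.hVp h.hT hV1 (fun _ _ _ _ => mem_top _)
  obtain ⟨u, hu, w, hw, huw⟩ := exists_split h v i
  have hvQ : ∀ q ∈ Q, q • v = v := fun q hq => hvT q (h.QT hq)
  -- elements of `E i`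
  have hfixE : ∀ y ∈ E i, (y • v = v ↔ y • u = u) := by
    intro y hy
    rw [huw, smul_mul', fix_other h hy hw]
    exact mul_left_inj w
  -- `u ≠ 1`
  have hu1 : u ≠ 1 := by
    intro h0
    have hvi : ∀ y ∈ E i, y • v = v := fun y hy => (hfixE y hy).2 (by rw [h0, smul_one])
    apply hv1
    have h1 : v ∈ fx V (⨆ i, E i) := by
      refine mem_fx_iSup fun j y hy => ?_
      obtain ⟨t, ht, htE⟩ := h.str.trans i j
      have h2 := hvi (t⁻¹ * y * t) ((htE _).1 (by rw [show t * (t⁻¹ * y * t) * t⁻¹ = y by group]; exact hy))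
      have h3 : y • t • v = t • v := by
        rw [← mul_smul, ← show t * (t⁻¹ * y * t) = y * t by group, mul_smul, h2]
      rwa [hvT t ht] at h3
    rw [h.fx_bot, mem_bot] at h1
    exact h1
  obtain ⟨f, hf⟩ : ∃ f, f = Multiplicative.toAdd (C.ψ i ⟨u, hu⟩) := ⟨_, rfl⟩
  have hfe : ∑ j, f j = 0 := by rw [hf]; exact C.even i _
  have hfT : ∀ y : ↥(E i), (y : X) ∈ T → ∀ z, f ((C.ρ i y)⁻¹ z) = f z := by
    intro y hy z
    have h1 : (y : X) • u = u := (hfixE y y.2).1 (hvT y hy)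
    have h2 := C.act i y ⟨u, hu⟩ ⟨u, hu⟩ h1.symm z
    rw [← hf] at h2
    exact h2.symm
  have hAT : A ≤ T := h.AQ.trans h.QT
  have hfab : f a = f b := by
    have h1 := hfT x (hAT hxA) b
    rw [hx, Equiv.swap_inv, Equiv.swap_apply_right] at h1
    exact h1
  by_cases hd : ∃ d, d ≠ a ∧ d ≠ b ∧ f b = f d
  · obtain ⟨d, hda, hdb, hfd⟩ := hd
    obtain ⟨y, hy⟩ := (C.ρ i).surjective (Equiv.swap b d)
    have h1 : (y : X) • u = u := C.fx i y b d hdb.symm hy ⟨u, hu⟩ (by rw [← hf]; exact hfd)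
    have h2 := h.pt v hv1 hvQ y ((hfixE y y.2).2 h1)
    have h3 : (y : X) * x * (y : X)⁻¹ ∈ Q := (mem_normalizer_iff.1 h2 x).1 (h.AQ hxA)
    have h4 : (x : X) * ((y : X) * x * (y : X)⁻¹) ∈ Q := Q.mul_mem (h.AQ hxA) h3
    obtain ⟨N, hN⟩ := (h.hT.to_le h.QT) ⟨_, h4⟩
    have h5 : ((x : X) * ((y : X) * x * (y : X)⁻¹)) ^ 2 ^ N = 1 := congrArg Subtype.val hN
    have h6 : (x * (y * x * y⁻¹)) ^ 2 ^ N = 1 := Subtype.ext (by simpa using h5)
    have h7 : (Equiv.swap a b * Equiv.swap a d) ^ 2 ^ N = 1 := by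
      have h8 := congrArg (C.ρ i) h6
      rw [map_pow, map_one, map_mul, map_mul, map_mul, map_inv, hx, hy] at h8
      have h9 : Equiv.swap b d * Equiv.swap a b * (Equiv.swap b d)⁻¹ = Equiv.swap a d := by
        rw [← Equiv.swap_apply_apply, Equiv.swap_apply_left, Equiv.swap_apply_of_ne_of_ne hab hda.symm]
      rw [h9] at h8
      exact h8
    have h8 := (Equiv.Perm.isThreeCycle_swap_mul_swap_same hab hda.symm hdb.symm).orderOf
    have h9 := orderOf_dvd_of_pow_eq_one h7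
    rw [h8] at h9
    exact three_not_dvd N h9
  · push Not at hd
    have hz : ∀ z, (z = a ∨ z = b) ↔ f z = f b := by
      intro z
      constructor
      · rintro (rfl | rfl)
        · exact hfab
        · rfl
      · intro hz
        by_contra hcon
        push Not at hcon
        exact hd z hcon.1 hcon.2 hz.symm
    have h1 : 2 ∣ ((T.subgroupOf (E i)).map (C.ρ i : ↥(E i) →* Equiv.Perm (Fin (2 ^ n + 1)))).index := by
      refine even_index hn hab ?_
      rintro _ ⟨y, hy, rfl⟩ z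
      rw [hz, hz]
      have h2 := hfT y (mem_subgroupOf.1 hy) (C.ρ i y z)
      rw [← Equiv.Perm.mul_apply, inv_mul_cancel, Equiv.Perm.one_apply] at h2
      rw [h2]
      rfl
    rw [index_map_equiv] at h1
    exact not_dvd h i h1

/-- **(B)** -/
theorem nat (h : Pt p X V T Q A E) : ∃ (F : Type) (_ : Field F) (_ : Fintype F) (n : ℕ), 1 ≤ n ∧
    Fintype.card F = p ^ n ∧ ∀ i, NatOff p F V T (E i) := by
  rcases h.str.fine with h1 | ⟨rfl, n, hn, hS⟩
  · exact h1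
  · exact (not_sym h hn hS).elim

/-- **(C)** -/
theorem inf_eq (h : Pt p X V T Q A E) {F : Type} [Field F] [Fintype F] {n : ℕ} (_hn : 1 ≤ n)
    (_hc : Fintype.card F = p ^ n) (hN : ∀ i, NatOff p F V T (E i)) : ∀ i, A ⊓ E i = T ⊓ E i := by
  have hAT : A ≤ T := h.AQ.trans h.QT
  obtain ⟨⟨i, hi⟩, -⟩ := all_off h.hV h.hT h.str hN hAT h.off h.A_ne
  intro j
  obtain ⟨q, hq, hqE⟩ := trans h i j
  rw [← inf_conj (h.QT hq) hqE, ← hi]
  ext y
  constructor
  · rintro ⟨hy1, hy2⟩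
    refine ⟨q⁻¹ * y * q, ⟨?_, ?_⟩, ?_⟩
    · have h1 := (mem_normalizer_iff.1 (h.QA (Q.inv_mem hq)) y).1 hy1
      rwa [inv_inv] at h1
    · change q⁻¹ * y * q ∈ E i
      rw [← hqE, show q * (q⁻¹ * y * q) * q⁻¹ = y by group]
      exact hy2
    · change q * (q⁻¹ * y * q) * q⁻¹ = y
      group
  · rintro ⟨z, ⟨hz1, hz2⟩, rfl⟩
    exact ⟨(mem_normalizer_iff.1 (h.QA hq) z).1 hz1, (hqE z).2 hz2⟩

end Cfsg.Agent.H538.P1
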